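import Mathlib
import Cfsg.Agent.FastGrp
import Cfsg.Agent.Prune
set_option linter.all false
prune_inst 0x7f00000000000000000000000000000000000000000000000000000000000000000000000000000000000000000000000000000000000000000000000000000000000000000000000000000000000000003fffffffffffffffffffffffffffbeffbdffffffff
open scoped Cfsg.Agent.FastGrp

/-!
# The coset lemma for commutators (helper843)

`Cov a b V W` : the section `V / W` is generated by the commutators with `a` and with `b`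
(equivalently `⟨a, b⟩` fixes no non-trivial linear character of `V / W`).

`step` : one abelian section.  `coset` : a whole series; every element of the coset `⁅a, b⁆ N` is
`⁅a u, b w⁆` with `u, w ∈ N`.
-/

set_option autoImplicit false

namespace Cfsg.Agent.H843.Ore

open scoped commutatorElement

variable {G : Type*} [Group G]

/-- The section `V / W` is generated by commutators with `a` and `b`. -/
def Cov (a b : G) (V W : Subgroup G) : Prop :=
  ∀ x ∈ V, ∃ p ∈ V, ∃ q ∈ V, x⁻¹ * (⁅p, a⁆ * ⁅q, b⁆) ∈ W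

/-- The commutator formula. -/
theorem comm_formula (a b v w : G) :
    ⁅a * v, b * w⁆ = ((a * v) * b * v⁻¹ * a⁻¹ * b⁻¹) * (b * ⁅a * v, w⁆ * b⁻¹) := by
  simp only [commutatorElement_def]
  group

/-- **One abelian section with trivial bottom.** -/
theorem step_bot {a b : G} {V : Subgroup G} [hV : V.Normal] (hab : ∀ x ∈ V, ∀ y ∈ V, x * y = y * x)
    (hc : Cov a b V ⊥) {x : G} (hx : x ∈ V) : ∃ v ∈ V, ∃ w ∈ V, ⁅a * v, b * w⁆ = ⁅a, b⁆ * x := by
  have hn : ∀ g : G, ∀ y ∈ V, g * y * g⁻¹ ∈ V := fun g y hy => hV.conj_mem y hy g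
  have hn' : ∀ g : G, ∀ y ∈ V, g⁻¹ * y * g ∈ V := fun g y hy => by
    have := hV.conj_mem y hy g⁻¹
    rwa [inv_inv] at this
  have hcm : ∀ g : G, ∀ y ∈ V, ⁅y, g⁆ ∈ V := fun g y hy => by
    have : ⁅y, g⁆ = y * (g * y⁻¹ * g⁻¹) := by simp only [commutatorElement_def]; group
    rw [this]
    exact V.mul_mem hy (hn g _ (V.inv_mem hy))
  -- the target, moved to the right place
  set c := ⁅a, b⁆ with hcdef
  set y : G := a⁻¹ * (c * x * c⁻¹) * a with hy
  have hyV : y ∈ V := hn' a _ (hn c x hx)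
  obtain ⟨p, hp, q, hq, hpq⟩ := hc y hyV
  rw [Subgroup.mem_bot, inv_mul_eq_one] at hpq
  set z := ⁅p, a⁆ with hz
  have hzV : z ∈ V := hcm a p hp
  refine ⟨q * z, V.mul_mem hq hzV, a * p⁻¹ * a⁻¹, hn a _ (V.inv_mem hp), ?_⟩
  set v := q * z with hv
  set w := a * p⁻¹ * a⁻¹ with hw
  have hvV : v ∈ V := V.mul_mem hq hzV
  have hwV : w ∈ V := hn a _ (V.inv_mem hp)
  -- `⁅a v, w⁆ = ⁅a, w⁆` since `v` and `w` commute
  have e1 : ⁅a * v, w⁆ = ⁅a, w⁆ := by
    have h1 : v * w * v⁻¹ = w := by rw [hab v hvV w hwV]; group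
    calc ⁅a * v, w⁆ = a * (v * w * v⁻¹) * a⁻¹ * w⁻¹ := by simp only [commutatorElement_def]; group
      _ = ⁅a, w⁆ := by rw [h1, commutatorElement_def]
  -- `⁅a, w⁆ = a z a⁻¹`-like
  have e2 : ⁅a, w⁆ = a * z * a⁻¹ := by
    have hz' : z = p * (a * p⁻¹ * a⁻¹) := by rw [hz, commutatorElement_def]; group
    have h1 : p * (a * p⁻¹ * a⁻¹) = (a * p⁻¹ * a⁻¹) * p := hab p hp _ (hn a _ (V.inv_mem hp))
    rw [hz', h1, hw, commutatorElement_def]
    group
  -- put together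
  have e3 : b * (a * z * a⁻¹) * b⁻¹ = (b * a) * z * (b * a)⁻¹ := by group
  have key : (a * v * b * v⁻¹ * a⁻¹ * b⁻¹) * (b * (a * z * a⁻¹) * b⁻¹)
      = a * (v * (b * v⁻¹ * b⁻¹)) * a⁻¹ * (c * ((b * a) * z * (b * a)⁻¹)) := by
    rw [hcdef, commutatorElement_def]
    group
  rw [comm_formula, e1, e2, key]
  -- everything in V
  have h4 : c * ((b * a) * z * (b * a)⁻¹) = (a * (b * z * b⁻¹) * a⁻¹) * c := by
    rw [hcdef, commutatorElement_def]
    group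
  rw [h4]
  have h5 : a * (v * (b * v⁻¹ * b⁻¹)) * a⁻¹ * ((a * (b * z * b⁻¹) * a⁻¹) * c)
      = a * (v * ((b * v⁻¹ * b⁻¹) * (b * z * b⁻¹))) * a⁻¹ * c := by group
  rw [h5]
  have h6 : v * ((b * v⁻¹ * b⁻¹) * (b * z * b⁻¹)) = z * ⁅q, b⁆ := by
    have h7 : (b * v⁻¹ * b⁻¹) * (b * z * b⁻¹) = b * q⁻¹ * b⁻¹ := by
      have : v⁻¹ * z = q⁻¹ := by
        rw [hv, mul_inv_rev, hab z⁻¹ (V.inv_mem hzV) q⁻¹ (V.inv_mem hq)]
        group
      calc (b * v⁻¹ * b⁻¹) * (b * z * b⁻¹) = b * (v⁻¹ * z) * b⁻¹ := by group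
        _ = b * q⁻¹ * b⁻¹ := by rw [this]
    rw [h7, hv, hab q hq z hzV, commutatorElement_def]
    group
  rw [h6, ← hpq, hy]
  group

/-- `Cov` in a quotient. -/
theorem Cov.map {a b : G} {V W : Subgroup G} [W.Normal] (h : Cov a b V W) :
    Cov (QuotientGroup.mk' W a) (QuotientGroup.mk' W b) (V.map (QuotientGroup.mk' W)) ⊥ := by
  rintro _ ⟨x, hx, rfl⟩
  obtain ⟨p, hp, q, hq, hpq⟩ := h x hx
  refine ⟨_, Subgroup.mem_map_of_mem _ hp, _, Subgroup.mem_map_of_mem _ hq, ?_⟩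
  rw [Subgroup.mem_bot, ← map_commutatorElement, ← map_commutatorElement, ← map_inv, ← map_mul,
    ← map_mul]
  exact (QuotientGroup.eq_one_iff _).2 hpq

/-- **One section.** -/
theorem step {a b : G} {V W : Subgroup G} [V.Normal] [W.Normal]
    (hab : ∀ x ∈ V, ∀ y ∈ V, ⁅x, y⁆ ∈ W) (hc : Cov a b V W) {x : G} (hx : x ∈ V) :
    ∃ v ∈ V, ∃ w ∈ V, ⁅a * v, b * w⁆⁻¹ * (⁅a, b⁆ * x) ∈ W := by
  haveI : (V.map (QuotientGroup.mk' W)).Normal := by
    have : (V.map (QuotientGroup.mk' W)).Normal :=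
      Subgroup.Normal.map inferInstance _ (QuotientGroup.mk'_surjective W)
    exact this
  obtain ⟨v', ⟨v, hv, rfl⟩, w', ⟨w, hw, rfl⟩, h⟩ := step_bot (a := QuotientGroup.mk' W a)
    (b := QuotientGroup.mk' W b) (V := V.map (QuotientGroup.mk' W)) (by
      rintro _ ⟨x, hx, rfl⟩ _ ⟨y, hy, rfl⟩
      have h1 : QuotientGroup.mk' W ⁅x, y⁆ = 1 := (QuotientGroup.eq_one_iff _).2 (hab x hx y hy)
      rw [map_commutatorElement, commutatorElement_eq_one_iff_mul_comm] at h1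
      exact h1) hc.map (x := QuotientGroup.mk' W x) (Subgroup.mem_map_of_mem _ hx)
  refine ⟨v, hv, w, hw, ?_⟩
  rw [← map_mul, ← map_mul, ← map_commutatorElement, ← map_commutatorElement, ← map_mul] at h
  exact QuotientGroup.eq.1 h

/-- `Cov` only depends on the cosets of a subgroup centralising the section. -/
theorem Cov.congr {a b u w : G} {V W : Subgroup G} [V.Normal] [W.Normal] (h : Cov a b V W)
    (hu : ∀ x ∈ V, ⁅x, u⁆ ∈ W) (hw : ∀ x ∈ V, ⁅x, w⁆ ∈ W) : Cov (a * u) (b * w) V W := by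
  have key : ∀ g t : G, (∀ x ∈ V, ⁅x, t⁆ ∈ W) → ∀ p ∈ V, ∃ r ∈ W, ⁅p, g * t⁆ = ⁅p, g⁆ * r := by
    intro g t ht p hp
    refine ⟨g * ⁅p, t⁆ * g⁻¹, Subgroup.Normal.conj_mem inferInstance _ (ht p hp) g, ?_⟩
    simp only [commutatorElement_def]
    group
  intro x hx
  obtain ⟨p, hp, q, hq, hpq⟩ := h x hx
  refine ⟨p, hp, q, hq, ?_⟩
  obtain ⟨r, hr, h1⟩ := key a u hu p hp
  obtain ⟨s, hs, h2⟩ := key b w hw q hq
  rw [h1, h2]
  have : x⁻¹ * (⁅p, a⁆ * r * (⁅q, b⁆ * s)) = (x⁻¹ * (⁅p, a⁆ * ⁅q, b⁆)) * (⁅q, b⁆⁻¹ * r * ⁅q, b⁆⁻¹⁻¹) * s := by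
    group
  rw [this]
  exact W.mul_mem (W.mul_mem hpq (Subgroup.Normal.conj_mem inferInstance _ hr _)) hs

end Cfsg.Agent.H843.Ore
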